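import Cfsg.Agent.Lib.Extra.SuzUnique.SwapData.Orb00
import Cfsg.Agent.Lib.Extra.SuzUnique.SwapData.Pos00
import Cfsg.Agent.Lib.Extra.SuzUnique.SwapData.Orb10
import Cfsg.Agent.Lib.Extra.SuzUnique.SwapData.Pos10
import Cfsg.Agent.Lib.Extra.SuzUnique.SwapData.Orb20
import Cfsg.Agent.Lib.Extra.SuzUnique.SwapData.Pos20
import Cfsg.Agent.Lib.Extra.SuzUnique.SwapData.Orb30
import Cfsg.Agent.Lib.Extra.SuzUnique.SwapData.Pos30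

/-! Generated certificate. -/

set_option autoImplicit false
set_option maxRecDepth 20000

namespace Cfsg.Lib.Extra.SuzUnique.SwapData

open Cfsg.Lib.CosetEnum

/-- Table. -/
def orb0 : Tab :=
  orb0_0

/-- Table. -/
def pos0 : Tab :=
  pos0_0

/-- A level of the base. -/
def level0 : BaseLevel :=
  ⟨orb0, pos0, 20,
    [[1, 4, 0, 4, 5, 0, 2], [2, 5, 0, 1, 4, 6, 2, 1, 7], [6, 0, 2, 4, 2, 4, 0], [6, 1, 2, 0, 1, 5, 2, 1], [0, 2, 1, 6, 2, 6, 1, 2]]⟩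

/-- Table. -/
def orb1 : Tab :=
  orb1_0

/-- Table. -/
def pos1 : Tab :=
  pos1_0

/-- A level of the base. -/
def level1 : BaseLevel :=
  ⟨orb1, pos1, 256,
    [[2, 5, 0, 1, 4, 6, 2, 1, 7], [6, 0, 2, 4, 2, 4, 0], [6, 1, 2, 0, 1, 5, 2, 1], [0, 2, 1, 6, 2, 6, 1, 2]]⟩

/-- Table. -/
def orb2 : Tab :=
  orb2_0

/-- Table. -/
def pos2 : Tab :=
  pos2_0

/-- A level of the base. -/
def level2 : BaseLevel :=
  ⟨orb2, pos2, 4,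
    [[6, 1, 2, 0, 1, 5, 2, 1], [0, 2, 1, 6, 2, 6, 1, 2]]⟩

/-- Table. -/
def orb3 : Tab :=
  orb3_0

/-- Table. -/
def pos3 : Tab :=
  pos3_0

/-- A level of the base. -/
def level3 : BaseLevel :=
  ⟨orb3, pos3, 3,
    [[0, 2, 1, 6, 2, 6, 1, 2]]⟩

/-- The base. -/
def levels : List BaseLevel :=
  [level0, level1, level2, level3]

/-- The conjugates of the letters by the swap. -/
def rWords : List (List Nat) :=
  [[1, 6, 0, 6, 1, 2], [0, 5, 2, 0, 2, 5, 0], [1, 0, 6, 1, 0, 2, 1], [3, 5, 7], [5, 2, 4, 2, 7], [2, 3, 4, 7, 2], [1, 0, 3, 4, 6, 0, 1], [2, 3, 4, 5, 2]]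

/-- The conjugates of the letters by the code 4. -/
def nWords : List (List Nat) :=
  [[1, 0, 1, 0, 1], [0, 1, 0, 1, 0], [0, 7, 0, 2], [5, 7], [3, 4, 5], [3, 7], [0, 5, 2, 5, 2, 0, 5, 6], [7]]

/-- The cube of the product of the swap and the code 4. -/
def rnWord : List Nat :=
  [0, 2, 0, 6, 0, 6, 1, 2, 0]

/-- The conjugates of the code 2. -/
def orbit54 : List (Nat × List Nat) :=
  [(2, []),
    (3, [9]),
    (4, [1, 8]),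
    (5, [0, 8]),
    (14, [4, 8]),
    (15, [4, 3, 8]),
    (22, [0, 4, 0, 8]),
    (23, [0, 4, 1, 8]),
    (30, [4, 2, 0, 8]),
    (31, [1, 2, 0, 8]),
    (32, [8, 0, 4, 0, 8]),
    (33, [2, 8, 4, 8]),
    (34, [4, 8, 0, 4, 0, 8]),
    (35, [4, 2, 8, 4, 8]),
    (36, [4, 2, 6, 8]),
    (37, [2, 4, 2, 0, 8]),
    (46, [6, 2, 1, 8]),
    (47, [6, 2, 0, 8]),
    (54, [1, 6, 8]),
    (55, [6, 4, 0, 8]),
    (62, [6, 3, 8]),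
    (63, [6, 8]),
    (64, [8, 4, 2, 6, 8]),
    (65, [2, 8, 1, 2, 0, 8]),
    (66, [1, 2, 8, 4, 8]),
    (67, [0, 2, 8, 4, 8]),
    (68, [2, 4, 8]),
    (69, [2, 4, 3, 8]),
    (78, [2, 6, 8]),
    (79, [0, 8, 1, 8]),
    (86, [8, 1, 8]),
    (87, [8, 0, 8]),
    (94, [6, 0, 8]),
    (95, [6, 1, 8]),
    (102, [3, 8]),
    (103, [8]),
    (104, [0, 4, 0, 8, 4, 8]),
    (105, [0, 4, 8, 2, 4, 8]),
    (106, [8, 4, 8]),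
    (107, [8, 4, 3, 8]),
    (108, [4, 1, 8]),
    (109, [4, 0, 8]),
    (112, [4, 0, 8, 4, 8]),
    (113, [4, 8, 2, 4, 8]),
    (114, [0, 8, 4, 8]),
    (115, [8, 2, 4, 8]),
    (116, [2, 0, 8]),
    (117, [2, 1, 8]),
    (120, [4, 8, 1, 2, 0, 8]),
    (121, [6, 8, 1, 2, 0, 8]),
    (122, [8, 1, 2, 0, 8]),
    (123, [8, 4, 2, 0, 8]),
    (124, [0, 1, 2, 0, 8]),
    (125, [2, 1, 6, 8])]

/-- The action of the letters on the classes. -/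
def letterAct : List (List Nat) :=
  [[0, 2, 1, 3, 8, 10, 9, 11, 4, 6, 5, 7, 12, 14, 13, 15], [0, 1, 3, 2, 8, 9, 11, 10, 4, 5, 7, 6, 12, 13, 15, 14], [0, 6, 12, 10, 13, 11, 1, 7, 15, 9, 3, 5, 2, 4, 14, 8], [0, 1, 2, 3, 4, 5, 6, 7, 8, 9, 10, 11, 12, 13, 14, 15], [0, 1, 2, 3, 4, 5, 6, 7, 8, 9, 10, 11, 12, 13, 14, 15], [0, 1, 2, 3, 4, 5, 6, 7, 8, 9, 10, 11, 12, 13, 14, 15], [0, 1, 2, 3, 4, 5, 6, 7, 8, 9, 10, 11, 12, 13, 14, 15], [0, 1, 2, 3, 4, 5, 6, 7, 8, 9, 10, 11, 12, 13, 14, 15]]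

/-- The labels of the conjugate classes. -/
def labelMap : List Nat :=
  [0, 1, 10, 11, 13, 12, 7, 6, 8, 9, 2, 3, 5, 4, 15, 14]

/-- The corrections for the code 4. -/
def nCorr : List Nat :=
  [0, 2, 3, 2, 0, 3, 3, 3, 0, 2, 3, 2, 3, 0, 0, 0]

/-- The images of the basis classes under the action, with words. -/
def actImages : List (List Nat × List Nat) :=
  [([1, 2, 4, 8], []),
    ([2, 1, 8, 4], [0]),
    ([1, 3, 8, 4], [1]),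
    ([6, 12, 13, 15], [2]),
    ([3, 1, 4, 8], [1, 0]),
    ([12, 6, 15, 13], [2, 0]),
    ([2, 3, 4, 8], [0, 1]),
    ([6, 10, 15, 13], [2, 1]),
    ([9, 12, 14, 15], [0, 2]),
    ([11, 12, 13, 14], [1, 2]),
    ([3, 2, 8, 4], [0, 1, 0]),
    ([10, 6, 13, 15], [2, 1, 0]),
    ([12, 9, 15, 14], [0, 2, 0]),
    ([12, 11, 14, 13], [1, 2, 0]),
    ([12, 10, 13, 15], [2, 0, 1]),
    ([9, 5, 15, 14], [0, 2, 1]),
    ([11, 7, 14, 13], [1, 2, 1]),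
    ([5, 12, 15, 14], [1, 0, 2]),
    ([9, 2, 14, 8], [2, 0, 2]),
    ([7, 12, 14, 13], [0, 1, 2]),
    ([5, 2, 4, 14], [2, 1, 2]),
    ([10, 12, 15, 13], [2, 0, 1, 0]),
    ([5, 9, 14, 15], [0, 2, 1, 0]),
    ([7, 11, 13, 14], [1, 2, 1, 0]),
    ([12, 5, 14, 15], [1, 0, 2, 0]),
    ([2, 9, 8, 14], [2, 0, 2, 0]),
    ([12, 7, 13, 14], [0, 1, 2, 0]),
    ([2, 5, 14, 4], [2, 1, 2, 0]),
    ([9, 11, 8, 14], [2, 0, 2, 1]),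
    ([5, 7, 14, 4], [2, 1, 2, 1]),
    ([11, 2, 8, 14], [2, 1, 0, 2]),
    ([6, 1, 13, 4], [0, 2, 0, 2]),
    ([5, 3, 15, 4], [1, 2, 0, 2]),
    ([7, 2, 14, 4], [2, 0, 1, 2]),
    ([10, 1, 8, 13], [0, 2, 1, 2]),
    ([9, 3, 8, 15], [1, 2, 1, 2]),
    ([11, 9, 14, 8], [2, 0, 2, 1, 0]),
    ([7, 5, 4, 14], [2, 1, 2, 1, 0]),
    ([2, 11, 14, 8], [2, 1, 0, 2, 0]),
    ([1, 6, 4, 13], [0, 2, 0, 2, 0]),
    ([3, 5, 4, 15], [1, 2, 0, 2, 0]),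
    ([2, 7, 4, 14], [2, 0, 1, 2, 0]),
    ([1, 10, 13, 8], [0, 2, 1, 2, 0]),
    ([3, 9, 15, 8], [1, 2, 1, 2, 0]),
    ([6, 7, 4, 13], [0, 2, 0, 2, 1]),
    ([5, 6, 4, 15], [1, 2, 0, 2, 1]),
    ([10, 11, 13, 8], [0, 2, 1, 2, 1]),
    ([9, 10, 15, 8], [1, 2, 1, 2, 1]),
    ([7, 1, 4, 13], [0, 2, 1, 0, 2]),
    ([6, 3, 4, 15], [1, 2, 1, 0, 2]),
    ([11, 1, 13, 8], [1, 0, 2, 0, 2]),
    ([10, 3, 15, 8], [0, 1, 2, 0, 2]),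
    ([11, 10, 8, 13], [2, 1, 2, 0, 2]),
    ([3, 6, 15, 4], [2, 0, 2, 1, 2]),
    ([7, 6, 13, 4], [0, 2, 0, 2, 1, 0]),
    ([6, 5, 15, 4], [1, 2, 0, 2, 1, 0]),
    ([10, 9, 8, 15], [1, 2, 1, 2, 1, 0]),
    ([1, 7, 13, 4], [0, 2, 1, 0, 2, 0]),
    ([1, 11, 8, 13], [1, 0, 2, 0, 2, 0]),
    ([3, 10, 8, 15], [0, 1, 2, 0, 2, 0])]

/-- Three elements of order five. -/
def fives : List (List Nat) :=
  [[0, 2], [0, 2, 4], [1, 2, 4]]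

/-- The letters as words in the elements of order five and their inverses. -/
def fiveWords : List (List Nat) :=
  [[2, 1, 5, 3, 2, 3, 2, 0, 1, 2], [1, 2, 0, 1, 2, 1, 5, 4, 2, 4], [2, 0, 5, 3, 2, 0, 5, 4, 2, 1], [0, 4, 2, 3, 1, 5], [3, 1], [0, 5, 4, 2, 1, 2, 3, 5, 4], [0, 2, 1, 2, 3, 5, 3, 2, 1, 5, 4], [3, 5, 3, 1, 5, 4, 2, 1, 2]]

/-- The basis codes other than the code 4, in the order 8, 16, 32, 64, 2, 1. -/
def codeWords : List (List Nat) :=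
  [[1, 0, 1, 0, 1, 0, 5], [1, 0, 5, 0, 1, 5], [2, 3, 7, 2], [0, 2, 7, 2, 0], [3], [3, 5, 7]]

end Cfsg.Lib.Extra.SuzUnique.SwapData
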