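import Cfsg.Agent.Lib.CosetEnum.Defs

/-! Generated certificate. -/

set_option autoImplicit false
set_option maxRecDepth 20000

namespace Cfsg.Lib.Extra.SuzUnique.SwapData

open Cfsg.Lib.CosetEnum

/-- Table data. -/
def orb0_0_0 : Tab :=
  (.leaf 0x6a500003000000000000100002800000000001a00002000000000041200001c00000000002d00001400000000051900001000004000069e00001000003000065b0000100000200004170000100000000006ac00000c0000400005ad0000080000400005650000080000300005290000080000200006f500000800000000056600000400004000052800000400003000062b0000040000100005ba00000400000000051800000000000000000000000000000)

/-- Table data. -/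
def orb0_0 : Tab :=
  orb0_0_0

end Cfsg.Lib.Extra.SuzUnique.SwapData
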